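import Cfsg.Agent.H58.Rec.Outer_m3
import Cfsg.Agent.H865.RhoEleven
import Cfsg.Agent.H858.Loc7
import Cfsg.Agent.Lib.FastPerm
import Cfsg.Agent.FastGrp
import Cfsg.Agent.Prune
set_option linter.all false
prune_inst 0x7f00000000000000000000000000000000000000000000000000000000000000000000000000000000000000000000000000000000000000000000000000000000000000000000000000000000000000003fffffffffffffffffffffffffffbeffbdffffffff
open scoped Cfsg.Agent.FastGrp

/-!
# Element orders of `J₄` (helper111, for S3484)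

* `cent_of` : elements of order 23, 29, 31, 37, 43 have centralizer of that order; `iso`.
* `hasFrob` : a Frobenius group `29 : 28`.
* `not_ord` : no element of order `28 p`, `p` prime.
-/

set_option autoImplicit false

open Cfsg

namespace Cfsg.Agent.H111.Rec.J4

open Subgroup
open Cfsg.Agent.H58.Rec
open Cfsg.Agent.H858.FixJ4 (card_J4)
open Cfsg.Agent.H455.Isolated
open Cfsg.Agent.H858.Loc7 Cfsg.Agent.H858.Norm57

theorem finite_J4 : Finite Spor.J4 := Cfsg.Agent.H858.FixJ4.facts.1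

/-- centralizer of order `p` -/
theorem cent_of {p : ℕ} (h : ∀ P : Subgroup Spor.J4, Nat.card P = p → Nat.card (centralizer (P : Set Spor.J4)) = p)
    (x : Spor.J4) (hx : orderOf x = p) (y : Spor.J4) (hxy : Commute x y) : y ∈ zpowers x := by
  have := finite_J4
  have h1 := h (zpowers x) (by rw [Nat.card_zpowers, hx])
  have h2 : zpowers x ≤ centralizer (zpowers x : Set Spor.J4) := by
    intro z hz
    rw [mem_centralizer_iff]
    intro w hw
    obtain ⟨i, rfl⟩ := mem_zpowers_iff.1 hz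
    obtain ⟨j, rfl⟩ := mem_zpowers_iff.1 hw
    rw [← zpow_add, ← zpow_add, add_comm]
  have h3 : zpowers x = centralizer (zpowers x : Set Spor.J4) :=
    eq_of_le_of_card_ge h2 (by rw [h1, Nat.card_zpowers, hx])
  rw [h3, mem_centralizer_iff]
  intro w hw
  obtain ⟨j, rfl⟩ := mem_zpowers_iff.1 hw
  exact (hxy.zpow_left j).eq

/-- an isolated prime -/
theorem iso_of {p : ℕ} (hp : p.Prime)
    (h : ∀ P : Subgroup Spor.J4, Nat.card P = p → Nat.card (centralizer (P : Set Spor.J4)) = p) :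
    Isolated Spor.J4 p := by
  have := finite_J4
  rw [isolated_iff]
  rintro s hs hsp ⟨g, hg⟩
  have h1 : orderOf (g ^ s) = p := by
    rw [orderOf_pow_of_dvd hs.ne_zero (by rw [hg]; exact dvd_mul_left s p), hg]
    exact Nat.mul_div_cancel _ hs.pos
  have h2 := cent_of h (g ^ s) h1 g ((Commute.refl g).pow_left s)
  have h3 : orderOf g ∣ p := by
    have := orderOf_dvd_natCard (⟨g, h2⟩ : zpowers (g ^ s))
    rwa [Subgroup.orderOf_mk, Nat.card_zpowers, h1] at this
  rw [hg] at h3
  have h4 : s ∣ p := (dvd_mul_left s p).trans h3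
  exact hsp ((Nat.prime_dvd_prime_iff_eq hs hp).1 h4)

theorem iso29 : Isolated Spor.J4 29 :=
  iso_of (by norm_num) fun _ hP => (Cfsg.Agent.H859.BigNum.data29' hP).1

theorem iso43 : Isolated Spor.J4 43 :=
  iso_of (by norm_num) fun _ hP => (Cfsg.Agent.H859.BigNum.data43 hP).1

theorem good29 : Good Spor.J4 29 :=
  have := finite_J4
  good_of_two (by norm_num) (by norm_num) (by rw [card_J4]; norm_num) iso29 (by norm_num) (by norm_num)
    (by rw [card_J4]; norm_num) iso43 (by norm_num)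

theorem good43 : Good Spor.J4 43 :=
  have := finite_J4
  good_of_two (by norm_num) (by norm_num) (by rw [card_J4]; norm_num) iso43 (by norm_num) (by norm_num)
    (by rw [card_J4]; norm_num) iso29 (by norm_num)

/-- a Frobenius group `29 : 28` -/
theorem hasFrob : HasFrob Spor.J4 29 28 := by
  have := finite_J4
  refine hasFrob_of_card (N := 86775571046077562880) (by norm_num) card_J4 (by norm_num) (by norm_num)
    (cent_of fun _ hP => (Cfsg.Agent.H859.BigNum.data29' hP).1) (by norm_num) ?_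
  decide +kernel

/-- orders of elements of the symmetric group of degree 5 -/
theorem orders_perm : ∀ u : Equiv.Perm (Fin 5), u ^ 4 = 1 ∨ u ^ 5 = 1 ∨ u ^ 6 = 1 := by (set_option synthInstance.maxSize 9000 in open scoped Cfsg.Agent.Lib.FastPerm in decide +kernel)

/-- elements commuting with the group of order 7 -/
theorem not_cent {p : ℕ} (hp : p.Prime) {x : Spor.J4} (hx : orderOf x = 28 * p)
    (hC : x ∈ centralizer (S7 : Set Spor.J4)) : False := by
  have h7 : Fact (Nat.Prime 7) := ⟨by norm_num⟩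
  obtain ⟨-, -, hcomm, -, hsup⟩ := directProduct
  rw [← hsup] at hC
  obtain ⟨a, ha, u, hu, hau⟩ : ∃ a ∈ S7, ∃ u ∈ I0, a * u = x := by
    let D : Subgroup Spor.J4 :=
      { carrier := {y | ∃ a ∈ S7, ∃ u ∈ I0, a * u = y}
        one_mem' := ⟨1, one_mem _, 1, one_mem _, one_mul 1⟩
        mul_mem' := by
          rintro _ _ ⟨a, ha, u, hu, rfl⟩ ⟨b, hb, v, hv, rfl⟩
          refine ⟨a * b, mul_mem ha hb, u * v, mul_mem hu hv, ?_⟩
          have h := hcomm b hb u hu
          calc a * b * (u * v) = a * (b * u) * v := by group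
            _ = a * (u * b) * v := by rw [h]
            _ = a * u * (b * v) := by group
        inv_mem' := by
          rintro _ ⟨a, ha, u, hu, rfl⟩
          refine ⟨a⁻¹, inv_mem ha, u⁻¹, inv_mem hu, ?_⟩
          rw [mul_inv_rev]
          exact hcomm _ (inv_mem ha) _ (inv_mem hu) }
    have h1 : S7 ⊔ I0 ≤ D :=
      sup_le (fun a ha => ⟨a, ha, 1, one_mem _, mul_one a⟩) (fun u hu => ⟨1, one_mem _, u, hu, one_mul u⟩)
    exact h1 hC
  have ha7 : a ^ 7 = 1 := by
    have h1 := orderOf_dvd_natCard (⟨a, ha⟩ : S7)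
    rw [Subgroup.orderOf_mk, card_S7] at h1
    exact orderOf_dvd_iff_pow_eq_one.1 h1
  have hx7 : x ^ 7 = u ^ 7 := by
    rw [← hau, (show Commute a u from hcomm a ha u hu).mul_pow, ha7, one_mul]
  have ho : orderOf (x ^ 7) = 4 * p := by
    rw [orderOf_pow_of_dvd (by norm_num) (by rw [hx]; exact ⟨4 * p, by ring⟩), hx]
    have : 28 * p = 4 * p * 7 := by ring
    rw [this]
    exact Nat.mul_div_cancel _ (by norm_num)
  obtain ⟨e⟩ := equiv_I0
  have h2 := hp.two_le
  have key : ∀ n : ℕ, 0 < n → n < 8 → e ⟨u, hu⟩ ^ n = 1 → False := by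
    intro n hn0 hn8 hn
    rw [← map_pow, map_eq_one_iff _ e.injective] at hn
    have h3 : u ^ n = 1 := congrArg Subtype.val hn
    have h4 : (x ^ 7) ^ n = 1 := by
      rw [hx7, ← pow_mul, mul_comm, pow_mul, h3, one_pow]
    have h5 := Nat.le_of_dvd hn0 (orderOf_dvd_of_pow_eq_one h4)
    rw [ho] at h5
    omega
  rcases orders_perm (e ⟨u, hu⟩) with h3 | h3 | h3
  · exact key 4 (by norm_num) (by norm_num) h3
  · exact key 5 (by norm_num) (by norm_num) h3
  · exact key 6 (by norm_num) (by norm_num) h3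

/-- no element of order `28 p` -/
theorem not_ord {p : ℕ} (hp : p.Prime) : ¬ HasOrd Spor.J4 (28 * p) := by
  have := finite_J4
  rintro ⟨x, hx⟩
  have h7 : Fact (Nat.Prime 7) := ⟨by norm_num⟩
  have h1 : orderOf (x ^ (4 * p)) = 7 := by
    rw [orderOf_pow_of_dvd (Nat.mul_ne_zero (by norm_num) hp.ne_zero) (by rw [hx]; exact ⟨7, by ring⟩), hx]
    have : 28 * p = 7 * (4 * p) := by ring
    rw [this]
    exact Nat.mul_div_cancel _ (Nat.mul_pos (by norm_num) hp.pos)
  obtain ⟨g, hg⟩ := Cfsg.Agent.H859.PrimeSub.exists_conj (P := zpowers (x ^ (4 * p))) (P' := S7)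
    (by rw [Nat.card_zpowers, h1]) card_S7 (by rw [card_J4]; norm_num)
  have h2 : orderOf (g * x * g⁻¹) = 28 * p := by
    rw [← hx]
    exact MulEquiv.orderOf_eq (MulAut.conj g) x
  refine not_cent hp h2 ?_
  rw [← hg, mem_centralizer_iff]
  rintro - ⟨y, hy, rfl⟩
  obtain ⟨i, rfl⟩ := mem_zpowers_iff.1 hy
  have h3 : Commute ((x ^ (4 * p)) ^ i) x := ((Commute.refl x).pow_left _).zpow_left i
  show g * (x ^ (4 * p)) ^ i * g⁻¹ * (g * x * g⁻¹) = g * x * g⁻¹ * (g * (x ^ (4 * p)) ^ i * g⁻¹)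
  calc g * (x ^ (4 * p)) ^ i * g⁻¹ * (g * x * g⁻¹) = g * ((x ^ (4 * p)) ^ i * x) * g⁻¹ := by group
    _ = g * (x * (x ^ (4 * p)) ^ i) * g⁻¹ := by rw [h3.eq]
    _ = _ := by group

end Cfsg.Agent.H111.Rec.J4
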