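import Cfsg.Agent.H111.Rec.FactsJ4
import Cfsg.Agent.H915.GNDefs_m3
import Cfsg.Agent.H58.Rec.Outer_m3
import Cfsg.Agent.S2068
import Cfsg.Agent.Prune
set_option linter.all false
prune_inst 0x7f00000000000000000000000000000000000000000000000000000000000000000000000000000000000000000000000000000000000000000000000000000000000000000000000000000000000000003fffffffffffffffffffffffffffbeffbdffffffff
open scoped Cfsg.Agent.FastGrp

/-!
# `J₄` is recognizable by its element orders (helper111, row of S3484)
-/

set_option autoImplicit false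
set_option maxRecDepth 100000

open Cfsg

namespace Cfsg.Agent.H111.Rec.J4

open Subgroup
open Cfsg.Agent.OrdDiv Cfsg.Agent.H436
open Cfsg.Agent.H58.Rec
open Cfsg.Agent.H858.FixJ4 (card_J4)
open Cfsg.Agent.H455.Isolated

universe u v

/-- the test of the list -/
def tst4 (g : Grp) : Bool :=
  pre [2, 3, 5, 7, 11, 23, 29, 31, 37, 43] [29, 43] g &&
    H559.PrimesLe.sm [2, 3, 5, 7, 11, 23, 29, 31, 37, 43] (ordN g)

/-- the part of the list in characteristic `p` -/
def blk4 (p : ℕ) : List Grp :=
  (((List.range 43).filter fun f => Nat.ble 1 f).flatMap fun f => H559.PrimesLe.candQ 43 p f).filter tst4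

private theorem blk4_eq (p : ℕ) : blk4 p = ((List.range 43).filter fun f => Nat.ble 1 f).flatMap fun f =>
    Q11.oneF [2, 3, 5, 7, 11, 23, 29, 31, 37, 43] [29, 43] 43 p f := by
  have h : tst4 = Q11.ttF [2, 3, 5, 7, 11, 23, 29, 31, 37, 43] [29, 43] := Q11.ttF_eq _ _
  change List.filter tst4 _ = _
  rw [h, List.filter_flatMap]
  exact List.flatMap_congr fun f _ => Q11.oneF_eq _ _ _ _ _

theorem blk4_2 : blk4 2 = [] := by rewrite [blk4_eq]; decide +kernel
theorem blk4_3 : blk4 3 = [] := by rewrite [blk4_eq]; decide +kernel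
theorem blk4_5 : blk4 5 = [] := by rewrite [blk4_eq]; decide +kernel
theorem blk4_7 : blk4 7 = [] := by rewrite [blk4_eq]; decide +kernel
theorem blk4_11 : blk4 11 = [] := by rewrite [blk4_eq]; decide +kernel
theorem blk4_23 : blk4 23 = [] := by rewrite [blk4_eq]; decide +kernel
theorem blk4_29 : blk4 29 = [] := by rewrite [blk4_eq]; decide +kernel
theorem blk4_31 : blk4 31 = [] := by rewrite [blk4_eq]; decide +kernel
theorem blk4_37 : blk4 37 = [] := by rewrite [blk4_eq]; decide +kernel
theorem blk4_43 : blk4 43 = [] := by rewrite [blk4_eq]; decide +kernel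

theorem head_j4 : (((List.range 13).filter fun n => Nat.ble 5 n).map Grp.alt ++ spor.map (fun x => x.1)).filter tst4 =
    [.j4] := by decide +kernel

theorem lst_j4 : lst [2, 3, 5, 7, 11, 23, 29, 31, 37, 43] [29, 43] 43 13 = [.j4] := by
  have h : lst [2, 3, 5, 7, 11, 23, 29, 31, 37, 43] [29, 43] 43 13 =
      (((List.range 13).filter fun n => Nat.ble 5 n).map Grp.alt ++ spor.map (fun x => x.1)).filter tst4 ++
        [2, 3, 5, 7, 11, 23, 29, 31, 37, 43].flatMap blk4 := by
    unfold lst H559.PrimesLe.cand
    rw [List.filter_append, List.filter_flatMap]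
    rfl
  rw [h, head_j4]
  simp only [List.flatMap_cons, List.flatMap_nil, blk4_2, blk4_3, blk4_5, blk4_7, blk4_11, blk4_23, blk4_29, blk4_31,
    blk4_37, blk4_43, List.append_nil]

theorem primes_J4 {r : ℕ} (hr : r.Prime) (h : r ∣ Nat.card Spor.J4) : r ∈ [2, 3, 5, 7, 11, 23, 29, 31, 37, 43] := by
  rw [card_J4] at h
  have e : 86775571046077562880 = 2 ^ 21 * 3 ^ 3 * 5 * 7 * 11 ^ 3 * 23 * 29 * 31 * 37 * 43 := by norm_num
  rw [e] at h
  have key : ∀ {q k : ℕ}, q.Prime → r ∣ q ^ k → r = q := fun hq hd =>
    (Nat.prime_dvd_prime_iff_eq hr hq).1 (hr.dvd_of_dvd_pow hd)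
  have key' : ∀ {q : ℕ}, q.Prime → r ∣ q → r = q := fun hq hd => (Nat.prime_dvd_prime_iff_eq hr hq).1 hd
  simp only [Nat.Prime.dvd_mul hr] at h
  rcases h with ((((((((h | h) | h) | h) | h) | h) | h) | h) | h) | h
  · have := key (by norm_num) h; subst this; decide
  · have := key (by norm_num) h; subst this; decide
  · have := key' (by norm_num) h; subst this; decide
  · have := key' (by norm_num) h; subst this; decide
  · have := key (by norm_num) h; subst this; decide
  · have := key' (by norm_num) h; subst this; decide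
  · have := key' (by norm_num) h; subst this; decide
  · have := key' (by norm_num) h; subst this; decide
  · have := key' (by norm_num) h; subst this; decide
  · have := key' (by norm_num) h; subst this; decide

/-- the same element orders, from an isomorphism -/
theorem same_of_equiv {A : Type*} {B : Type*} [Group A] [Group B] (e : A ≃* B) : Same A B := fun _ =>
  ⟨fun h => h.congr e, fun h => h.congr e.symm⟩

theorem Same.trans' {A : Type*} {B : Type*} {C : Type*} [Group A] [Group B] [Group C] (h : Same A B)
    (h' : Same B C) : Same A C := fun n => (h n).trans (h' n)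

/-- **The row of `J₄`.** -/
theorem rec_j4 (hN : NameHyp.{u}) {G : Type u} [Group G] [Finite G] {M : Type v} [Group M] [Finite M]
    (hM : Spor.IsoJ4 M) (h : Same G M) : Nonempty (G ≃* M) := by
  have hfJ := finite_J4
  obtain ⟨e0⟩ := hM
  have hJ : Same G Spor.J4 := Same.trans' h (same_of_equiv e0)
  have h29 : Good G 29 := good29.of_same hJ
  have h43 : Good G 43 := good43.of_same hJ
  have hns : ¬ Group.IsSolvable G :=
    not_solvable_of_same hJ (r := 29) (s := 43) (t := 7) (by norm_num) (by norm_num) (by norm_num) (by norm_num)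
      (by norm_num) (by norm_num) (by rw [card_J4]; norm_num) (by rw [card_J4]; norm_num)
      (by rw [card_J4]; norm_num) (isolated_iff.1 iso29 43 (by norm_num) (by norm_num))
      (isolated_iff.1 iso29 7 (by norm_num) (by norm_num)) (isolated_iff.1 iso43 7 (by norm_num) (by norm_num))
  have h2 : 2 ∣ Nat.card G := (dvd_of_same hJ Nat.prime_two).2 (by rw [card_J4]; norm_num)
  obtain ⟨X, _, _, π, S, hR⟩ := exists_red hns h2 h29
  have R := hR 29 h29
  have R' := hR 43 h43
  -- the name of `S`
  have hS := R.simple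
  obtain ⟨g, hg⟩ := hN S R.nonab
  have hcX : Nat.card X ∣ Nat.card G := card_dvd_of_surjective π R.surj
  have hprimes : ∀ r, r.Prime → r ∣ Nat.card S → r ∈ [2, 3, 5, 7, 11, 23, 29, 31, 37, 43] := fun r hr hd =>
    primes_J4 hr ((dvd_of_same hJ hr).1 ((hd.trans (card_subgroup_dvd_card S)).trans hcX))
  have hmem := mem_lst hg (ps := [2, 3, 5, 7, 11, 23, 29, 31, 37, 43]) (rs := [29, 43]) (B := 43) (N := 13)
    (by norm_num) (by decide) (by norm_num) (by decide) hprimes (by
      intro r hr
      simp only [List.mem_cons, List.not_mem_nil, or_false] at hr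
      rcases hr with rfl | rfl
      · exact R.dvd
      · exact R'.dvd)
  rw [lst_j4, List.mem_singleton] at hmem
  subst hmem
  obtain ⟨e1⟩ : Spor.IsoJ4 S := hg.real
  have hF : HasFrob S 29 28 := hasFrob.congr e1.symm
  refine finish R ?_ (e1.trans e0.symm) (Or.inl ?_)
  · intro p hp _
    by_cases hp29 : p = 29
    · rw [hp29]
      exact R.not_dvd
    · exact R.kill' hp (by norm_num) (Ne.symm hp29) hF fun h1 => not_ord hp ((hJ _).1 h1)
  · rw [Cfsg.Agent.H548.Crit.card_out_congr e0]
    exact Cfsg.Agent.S2068.result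

end Cfsg.Agent.H111.Rec.J4
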